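import Mathlib
import Groth.Prelude.Def_Frob
import Groth.Agent.IdealStalkLib.Comap
import Groth.Agent.BlowCompLib.Compose

/-!
# Frobenius twisted correspondences are contracting
-/

set_option autoImplicit false

universe u

namespace Groth.Agent.FrobCorrLib

open CategoryTheory CategoryTheory.Limits AlgebraicGeometry TopologicalSpace Opposite

/-- A pushout of rings is generated by the two images. -/
theorem gen_of_isPushout {A B K R : CommRingCat.{u}} {f : A ⟶ B} {g : A ⟶ K} {i : B ⟶ R} {j : K ⟶ R}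
    (h : IsPushout f g i j) (T : Subring R) (hi : ∀ b, i b ∈ T) (hj : ∀ c, j c ∈ T) : ∀ r, r ∈ T := by
  let i' : B ⟶ CommRingCat.of T := CommRingCat.ofHom (i.hom.codRestrict T hi)
  let j' : K ⟶ CommRingCat.of T := CommRingCat.ofHom (j.hom.codRestrict T hj)
  let l : CommRingCat.of T ⟶ R := CommRingCat.ofHom T.subtype
  have w : f ≫ i' = g ≫ j' := by
    ext a
    exact congrArg (fun q : A ⟶ R => q.hom a) h.w
  have hd : h.desc i' j' w ≫ l = 𝟙 R := by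
    apply h.hom_ext
    · rw [← Category.assoc, h.inl_desc, Category.comp_id]; rfl
    · rw [← Category.assoc, h.inr_desc, Category.comp_id]; rfl
  intro r
  have h2 : ((h.desc i' j' w) r : R) = r := congrArg (fun q : R ⟶ R => q.hom r) hd
  exact h2 ▸ ((h.desc i' j' w).hom r).2

theorem frob_pow_succ (C₀ : Scheme.{u}) (p : ℕ) [Fact p.Prime] [FrobSch.IsCharP C₀ p] (M : ℕ) :
    End.asHom (End.of (FrobSch.frob C₀ p) ^ (M + 1)) =
      FrobSch.frob C₀ p ≫ End.asHom (End.of (FrobSch.frob C₀ p) ^ M) := by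
  rw [pow_succ]; rfl

theorem frob_pow_preimage (C₀ : Scheme.{u}) (p : ℕ) [Fact p.Prime] [FrobSch.IsCharP C₀ p] (M : ℕ) (V₀ : C₀.Opens) :
    (End.asHom (End.of (FrobSch.frob C₀ p) ^ M)) ⁻¹ᵁ V₀ = V₀ := by
  induction M with
  | zero => rfl
  | succ M ih =>
    rw [frob_pow_succ, Scheme.Hom.comp_preimage, ih]
    rfl

theorem isIso_ι_appLE {X : Scheme.{u}} (W : X.Opens) (e) : IsIso (W.ι.appLE W ⊤ e) := by
  rw [Scheme.Opens.ι_appLE]
  let i : W.ι ''ᵁ ⊤ ≅ W := eqToIso W.ι_image_top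
  exact (X.presheaf.mapIso i.op).isIso_hom

theorem top_le_ι {X : Scheme.{u}} (W : X.Opens) : (⊤ : (W : Scheme.{u}).Opens) ≤ W.ι ⁻¹ᵁ W := by simp

theorem top_le_top' {X Y : Scheme.{u}} (f : X ⟶ Y) : (⊤ : X.Opens) ≤ f ⁻¹ᵁ ⊤ := le_of_eq f.preimage_top.symm

theorem appTop_eq {X Y : Scheme.{u}} (f : X ⟶ Y) : f.appTop = f.appLE ⊤ ⊤ (top_le_top' f) :=
  (Scheme.Hom.app_eq_appLE (f := f) (U := ⊤)).trans rfl

theorem frob_pow_appLE (C₀ : Scheme.{u}) (p : ℕ) [Fact p.Prime] [FrobSch.IsCharP C₀ p] (N : ℕ) (U : C₀.Opens)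
    (e : U ≤ (End.asHom (End.of (FrobSch.frob C₀ p) ^ N)) ⁻¹ᵁ U) (s : Γ(C₀, U)) :
    (End.asHom (End.of (FrobSch.frob C₀ p) ^ N)).appLE U U e s = s ^ p ^ N := by
  induction N with
  | zero =>
    show ((Scheme.Hom.app (𝟙 C₀) U) ≫ C₀.presheaf.map (homOfLE e).op) s = s ^ p ^ 0
    rw [show (homOfLE e).op = 𝟙 (op U) from Subsingleton.elim _ _]
    erw [CategoryTheory.Functor.map_id]
    simp only [pow_zero, pow_one]
    rfl
  | succ N ih =>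
    have hb := (frob_pow_preimage C₀ p N U).ge
    have h1 := Scheme.Hom.appLE_comp_appLE (FrobSch.frob C₀ p) (End.asHom (End.of (FrobSch.frob C₀ p) ^ N)) U U U hb le_rfl
    have h2 : (End.asHom (End.of (FrobSch.frob C₀ p) ^ (N + 1))).appLE U U e s =
        (FrobSch.frob C₀ p).appLE U U le_rfl ((End.asHom (End.of (FrobSch.frob C₀ p) ^ N)).appLE U U hb s) := by
      rw [← CommRingCat.comp_apply, h1]
      simp only [frob_pow_succ]
    rw [h2, ih hb]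
    have h3 : (FrobSch.frob C₀ p).appLE U U le_rfl = (FrobSch.frob C₀ p).app U := ((FrobSch.frob C₀ p).app_eq_appLE).symm
    rw [h3]
    show (s ^ p ^ N) ^ p = _
    rw [← pow_mul, ← pow_succ]

section
variable {C C₀ : Scheme.{u}} (p : ℕ) [Fact p.Prime] (k₀ : Type u) [Field k₀] [CharP k₀ p]
  (K : Type u) [Field K] [Algebra k₀ K] [IsAlgClosed K]
  (f₀ : C₀ ⟶ Spec (CommRingCat.of k₀)) [FrobSch.IsCharP C₀ p]
  (πC₀ : C ⟶ C₀) (πK : C ⟶ Spec (CommRingCat.of K))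
  (hC : IsPullback πC₀ πK f₀ (Spec.map (CommRingCat.ofHom (algebraMap k₀ K))))
  (N : ℕ) (Fr : C ⟶ C)
  (hFr₀ : Fr ≫ πC₀ = πC₀ ≫ End.asHom (End.of (FrobSch.frob C₀ p) ^ N)) (hFrK : Fr ≫ πK = πK)

include hC hFr₀ hFrK in
/-- Every pulled back section is a power. -/
theorem exists_pow_eq (V₀ : C₀.Opens) (hV₀ : IsAffineOpen V₀) :
    IsAffineOpen (πC₀ ⁻¹ᵁ V₀) ∧ ∃ hle : πC₀ ⁻¹ᵁ V₀ ≤ Fr ⁻¹ᵁ (πC₀ ⁻¹ᵁ V₀),
      ∀ a : Γ(C, πC₀ ⁻¹ᵁ V₀), ∃ b : Γ(C, πC₀ ⁻¹ᵁ V₀), Fr.appLE _ _ hle a = b ^ p ^ N := by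
  set F := End.asHom (End.of (FrobSch.frob C₀ p) ^ N)
  have : IsAffineHom πC₀ := MorphismProperty.of_isPullback hC.flip inferInstance
  have hV : IsAffineOpen (πC₀ ⁻¹ᵁ V₀) := hV₀.preimage πC₀
  have hFV : F ⁻¹ᵁ V₀ = V₀ := frob_pow_preimage C₀ p N V₀
  have hle : πC₀ ⁻¹ᵁ V₀ ≤ Fr ⁻¹ᵁ (πC₀ ⁻¹ᵁ V₀) := by
    rw [← Scheme.Hom.comp_preimage, hFr₀, Scheme.Hom.comp_preimage, hFV]
  refine ⟨hV, hle, ?_⟩
  let V := πC₀ ⁻¹ᵁ V₀
  have : IsAffine (V : Scheme.{u}) := hV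
  have : IsAffine (V₀ : Scheme.{u}) := hV₀
  let p0 : (V : Scheme.{u}) ⟶ (V₀ : Scheme.{u}) := πC₀ ∣_ V₀
  have hp : IsPullback p0 (V.ι ≫ πK) (V₀.ι ≫ f₀) (Spec.map (CommRingCat.ofHom (algebraMap k₀ K))) :=
    ((isPullback_morphismRestrict πC₀ V₀).flip.paste_horiz hC.flip).flip
  have hpush := isPushout_appTop_of_isPullback hp
  let FrV : (V : Scheme.{u}) ⟶ (V : Scheme.{u}) := IsOpenImmersion.lift V.ι (V.ι ≫ Fr) (by
    rintro _ ⟨z, rfl⟩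
    rw [Scheme.Opens.range_ι]
    exact hle z.2)
  have hFrV : FrV ≫ V.ι = V.ι ≫ Fr := IsOpenImmersion.lift_fac _ _ _
  have hchar : (p : Γ((V : Scheme.{u}), ⊤)) = 0 := by
    rw [← map_natCast p0.appTop.hom, ← map_natCast (V₀.ι.appTop).hom]
    rw [FrobSch.natCast_eq_zero_app C₀ p ⊤, map_zero, map_zero]
  let T : Subring Γ((V : Scheme.{u}), ⊤) :=
    { carrier := {a | ∃ b, FrV.appTop a = b ^ p ^ N}
      one_mem' := ⟨1, by simp⟩
      zero_mem' := ⟨0, by simp [(Fact.out : p.Prime).ne_zero]⟩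
      mul_mem' := by rintro a b ⟨a', ha⟩ ⟨b', hb⟩; exact ⟨a' * b', by rw [map_mul, ha, hb, mul_pow]⟩
      add_mem' := by
        rintro a b ⟨a', ha⟩ ⟨b', hb⟩
        rcases subsingleton_or_nontrivial Γ((V : Scheme.{u}), ⊤) with hs | hs
        · exact ⟨0, Subsingleton.elim _ _⟩
        haveI : CharP Γ((V : Scheme.{u}), ⊤) p := (CharP.charP_iff_prime_eq_zero (Fact.out : p.Prime)).mpr hchar
        exact ⟨a' + b', by rw [map_add, ha, hb, add_pow_char_pow]⟩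
      neg_mem' := by
        rintro a ⟨a', ha⟩
        rcases subsingleton_or_nontrivial Γ((V : Scheme.{u}), ⊤) with hs | hs
        · exact ⟨0, Subsingleton.elim _ _⟩
        haveI : CharP Γ((V : Scheme.{u}), ⊤) p := (CharP.charP_iff_prime_eq_zero (Fact.out : p.Prime)).mpr hchar
        refine ⟨-a', ?_⟩
        rw [map_neg, ha, ← iterateFrobenius_def, ← iterateFrobenius_def, map_neg] }
  have hT : ∀ a, a ∈ T := by
    refine gen_of_isPushout hpush T (fun b => ?_) (fun c => ?_)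
    · obtain ⟨b', rfl⟩ : ∃ b', V₀.ι.appLE V₀ ⊤ (top_le_ι V₀) b' = b := by
        have := isIso_ι_appLE V₀ (top_le_ι V₀)
        exact (ConcreteCategory.bijective_of_isIso (V₀.ι.appLE V₀ ⊤ (top_le_ι V₀))).2 b
      refine ⟨p0.appTop (V₀.ι.appLE V₀ ⊤ (top_le_ι V₀) b'), ?_⟩
      have e1 : (FrV ≫ p0) ≫ V₀.ι = (p0 ≫ V₀.ι) ≫ F := by
        simp only [p0, Category.assoc, morphismRestrict_ι]
        rw [reassoc_of% hFrV, hFr₀]
      have hp0 : (⊤ : (V : Scheme.{u}).Opens) ≤ (p0 ≫ V₀.ι) ⁻¹ᵁ V₀ := fun z _ => (p0 z).2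
      have h1 : V₀.ι.appLE V₀ ⊤ (top_le_ι V₀) ≫ (FrV ≫ p0).appLE ⊤ ⊤ (top_le_top' _) =
          F.appLE V₀ V₀ hFV.ge ≫ (p0 ≫ V₀.ι).appLE V₀ ⊤ hp0 := by
        refine (Scheme.Hom.appLE_comp_appLE (FrV ≫ p0) V₀.ι V₀ ⊤ ⊤ _ _).trans
          ((?_ : _ = _).trans (Scheme.Hom.appLE_comp_appLE (p0 ≫ V₀.ι) F V₀ V₀ ⊤ _ _).symm)
        congr 1
      have h2 := congrArg (fun q : Γ(C₀, V₀) ⟶ Γ((V : Scheme.{u}), ⊤) => q b') h1
      simp only [CommRingCat.comp_apply] at h2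
      have h3 : (p0 ≫ V₀.ι).appLE V₀ ⊤ hp0 b' = p0.appTop (V₀.ι.appLE V₀ ⊤ (top_le_ι V₀) b') := by
        rw [← CommRingCat.comp_apply, appTop_eq, Scheme.Hom.appLE_comp_appLE p0 V₀.ι V₀ ⊤ ⊤]
      have h4 : (FrV ≫ p0).appLE ⊤ ⊤ (top_le_top' _) (V₀.ι.appLE V₀ ⊤ (top_le_ι V₀) b') =
          FrV.appTop (p0.appTop (V₀.ι.appLE V₀ ⊤ (top_le_ι V₀) b')) := by
        rw [← appTop_eq, Scheme.Hom.comp_appTop]
        rfl
      rw [← h4, h2, ← h3, ← map_pow]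
      exact congrArg _ (frob_pow_appLE C₀ p N V₀ _ b')
    · obtain ⟨c', hc'⟩ := (ConcreteCategory.bijective_of_isIso (Scheme.ΓSpecIso (CommRingCat.of K)).inv).2 c
      obtain ⟨r, hr⟩ := IsAlgClosed.exists_pow_nat_eq c' (pow_pos (Fact.out : p.Prime).pos N)
      refine ⟨(V.ι ≫ πK).appTop ((Scheme.ΓSpecIso (CommRingCat.of K)).inv r), ?_⟩
      rw [← map_pow, ← map_pow, hr, hc', ← CommRingCat.comp_apply, ← Scheme.Hom.comp_appTop,
        reassoc_of% hFrV, hFrK]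
  intro a
  let ι' := V.ι.appLE V ⊤ (top_le_ι V)
  have : IsIso ι' := isIso_ι_appLE V _
  obtain ⟨b, hb⟩ := hT (ι' a)
  obtain ⟨b', rfl⟩ := (ConcreteCategory.bijective_of_isIso ι').2 b
  refine ⟨b', (ConcreteCategory.bijective_of_isIso ι').1 ?_⟩
  rw [map_pow, ← hb]
  have h1 : Fr.appLE V V hle ≫ ι' = ι' ≫ FrV.appLE ⊤ ⊤ (top_le_top' _) := by
    refine (Scheme.Hom.appLE_comp_appLE V.ι Fr V V ⊤ _ _).trans
      ((?_ : _ = _).trans (Scheme.Hom.appLE_comp_appLE FrV V.ι V ⊤ ⊤ _ _).symm)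
    simp only [hFrV]
  rw [appTop_eq, ← CommRingCat.comp_apply, ← CommRingCat.comp_apply, h1]


include hC hFr₀ hFrK in
/-- On a small affine open where the support of `J` maps into the zero locus, the twisted ideal lies
in the power of the radical. -/
theorem ideal_le_radical_pow {X : Scheme.{u}} (c₁ : C ⟶ X) (I : X.IdealSheafData) (J : C.IdealSheafData)
    (W₀ : C₀.Opens) (hW₀ : IsAffineOpen W₀) (g : Γ(C, πC₀ ⁻¹ᵁ W₀))
    (h : ∀ z ∈ C.basicOpen g, z ∈ J.support → z ∈ (I.comap (Fr ≫ c₁)).support)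
    (hV₀ : IsAffineOpen (πC₀ ⁻¹ᵁ W₀)) :
    (I.comap (Fr ≫ c₁)).ideal (C.affineBasicOpen (U := ⟨_, hV₀⟩) g) ≤
      (J.radical ^ (p ^ N)).ideal (C.affineBasicOpen (U := ⟨_, hV₀⟩) g) := by
  set L := I.comap (Fr ≫ c₁)
  set V := C.affineBasicOpen (U := ⟨_, hV₀⟩) g
  have hrad : L.ideal V ≤ (J.ideal V).radical := by
    rw [Ideal.radical_eq_sInf]
    refine le_sInf fun P hP => ?_
    let z : PrimeSpectrum Γ(C, V.1) := ⟨P, hP.2⟩
    have hzJ : z ∈ PrimeSpectrum.zeroLocus (J.ideal V : Set Γ(C, V.1)) := hP.1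
    have h1 : V.2.fromSpec z ∈ C.zeroLocus (U := V.1) (J.ideal V : Set Γ(C, V.1)) ∩ (V.1 : Set C) := by
      rw [← IsAffineOpen.fromSpec_image_zeroLocus V.2]; exact ⟨z, hzJ, rfl⟩
    have h2 : V.2.fromSpec z ∈ C.zeroLocus (U := V.1) (L.ideal V : Set Γ(C, V.1)) ∩ (V.1 : Set C) :=
      ⟨(Scheme.IdealSheafData.mem_support_iff_of_mem (U := V) h1.2).mp
        (h _ h1.2 ((Scheme.IdealSheafData.mem_support_iff_of_mem (U := V) h1.2).mpr h1.1)), h1.2⟩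
    rw [← IsAffineOpen.fromSpec_image_zeroLocus V.2] at h2
    obtain ⟨z', hz', hzz⟩ := h2
    rw [V.2.fromSpec.isOpenEmbedding.injective hzz] at hz'
    exact hz'
  obtain ⟨-, hle, hpow⟩ := exists_pow_eq p k₀ K f₀ πC₀ πK hC N Fr hFr₀ hFrK W₀ hW₀
  rw [Scheme.IdealSheafData.ideal_pow, Pi.pow_apply, Scheme.IdealSheafData.radical_ideal]
  have hmap := L.map_ideal (U := V) (V := ⟨_, hV₀⟩) (C.basicOpen_le g)
  rw [← hmap]
  conv_lhs => simp only [L, Scheme.IdealSheafData.comap_comp]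
  rw [IdealStalkLib.comap_ideal _ Fr hV₀ hV₀ hle, Ideal.map_map, Ideal.map_le_iff_le_comap]
  intro a ha
  obtain ⟨b, hb⟩ := hpow a
  rw [Ideal.mem_comap, RingHom.comp_apply, hb, map_pow]
  refine Ideal.pow_mem_pow ((Ideal.radical_isRadical _) ⟨p ^ N, hrad ?_⟩) _
  rw [← map_pow, ← hb, ← hmap]
  refine Ideal.mem_map_of_mem _ ?_
  simp only [L, Scheme.IdealSheafData.comap_comp]
  rw [IdealStalkLib.comap_ideal _ Fr hV₀ hV₀ hle]
  exact Ideal.mem_map_of_mem _ ha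

include hC hFr₀ hFrK in
/-- The twisted inverse image lies in the power of the radical near the points where it may. -/
theorem comap_le_radical_pow {X : Scheme.{u}} (c₁ : C ⟶ X) (I : X.IdealSheafData) (J : C.IdealSheafData)
    (W : C.Opens) (h : ∀ z ∈ W, z ∈ J.support → z ∈ (I.comap (Fr ≫ c₁)).support) :
    (I.comap (Fr ≫ c₁)).comap W.ι ≤ (J.radical ^ (p ^ N)).comap W.ι := by
  have hcover : ∀ z : W, ∃ (W₀ : C₀.Opens) (hW₀ : IsAffineOpen W₀) (g : Γ(C, πC₀ ⁻¹ᵁ W₀)),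
      z.1 ∈ C.basicOpen g ∧ C.basicOpen g ≤ W := by
    intro z
    obtain ⟨W₀, hW₀, hz, -⟩ := exists_isAffineOpen_mem_and_subset (x := πC₀ z.1) (U := ⊤) trivial
    obtain ⟨g, hgW, hzg⟩ := (exists_pow_eq p k₀ K f₀ πC₀ πK hC N Fr hFr₀ hFrK W₀ hW₀).1.exists_basicOpen_le
      (V := W) ⟨z.1, z.2⟩ hz
    exact ⟨W₀, hW₀, g, hzg, hgW⟩
  choose W₀ hW₀ g hzg hgW using hcover
  have hV₀ := fun z => (exists_pow_eq p k₀ K f₀ πC₀ πK hC N Fr hFr₀ hFrK (W₀ z) (hW₀ z)).1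
  refine Scheme.IdealSheafData.le_of_iSup_eq_top (fun z : W =>
    (⟨W.ι ⁻¹ᵁ C.basicOpen (g z), ((hV₀ z).basicOpen (g z)).preimage_of_isOpenImmersion W.ι
      (by rw [Scheme.Opens.opensRange_ι]; exact hgW z)⟩ : (W : Scheme.{u}).affineOpens)) ?_ fun z => ?_
  · rw [eq_top_iff]
    intro z _
    exact Opens.mem_iSup.mpr ⟨z, hzg z⟩
  · rw [IdealStalkLib.comap_ideal _ W.ι ((hV₀ z).basicOpen (g z)) _ le_rfl,
      IdealStalkLib.comap_ideal _ W.ι ((hV₀ z).basicOpen (g z)) _ le_rfl]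
    exact Ideal.map_mono (ideal_le_radical_pow p k₀ K f₀ πC₀ πK hC N Fr hFr₀ hFrK c₁ I J (W₀ z) (hW₀ z) (g z)
      (fun y hy => h y (hgW z hy)) (hV₀ z))

include hC hFr₀ hFrK in
/-- A sufficiently twisted correspondence is contracting. -/
theorem contracting {X : Scheme.{u}} (c₁ c₂ : C ⟶ X) (I : X.IdealSheafData) (W : C.Opens) (d : ℕ)
    (hd : (I.comap c₂).radical ^ d ≤ I.comap c₂) (hn : d < p ^ N)
    (h : ∀ z ∈ W, z ∈ (I.comap c₂).support → z ∈ (I.comap (Fr ≫ c₁)).support) :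
    I.comap (W.ι ≫ Fr ≫ c₁) ≤ I.comap (W.ι ≫ c₂) ∧
      I.comap (W.ι ≫ Fr ≫ c₁) ^ d ≤ I.comap (W.ι ≫ c₂) ^ (d + 1) := by
  have hL := comap_le_radical_pow p k₀ K f₀ πC₀ πK hC N Fr hFr₀ hFrK c₁ I (I.comap c₂) W h
  rw [Scheme.IdealSheafData.comap_comp I W.ι (Fr ≫ c₁), Scheme.IdealSheafData.comap_comp I W.ι c₂]
  set J := I.comap c₂
  set L := (I.comap (Fr ≫ c₁)).comap W.ι
  have hJ : J.radical ^ (p ^ N) ≤ J := le_trans (fun U => Ideal.pow_le_pow_right hn.le) hd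
  refine ⟨hL.trans (Scheme.IdealSheafData.comap_mono W.ι hJ), ?_⟩
  have hc : ∀ (K : C.IdealSheafData) (n : ℕ), (K ^ n).comap W.ι = (K.comap W.ι) ^ n := by
    intro K n
    induction n with
    | zero => rw [pow_zero, pow_zero]; exact Scheme.IdealSheafData.comap_top W.ι
    | succ n ih => rw [pow_succ, pow_succ, BlowCompLib.comap_mul, ih]
  intro U
  have h1 := hL U
  have h2 := Scheme.IdealSheafData.comap_mono W.ι hd U
  dsimp only at h2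
  rw [hc] at h1 h2
  simp only [Scheme.IdealSheafData.ideal_pow, Pi.pow_apply] at h1 h2 ⊢
  calc L.ideal U ^ d ≤ ((J.radical.comap W.ι).ideal U ^ p ^ N) ^ d := Ideal.pow_right_mono h1 d
    _ = ((J.radical.comap W.ι).ideal U ^ d) ^ p ^ N := by rw [← pow_mul, ← pow_mul, mul_comm]
    _ ≤ (J.comap W.ι).ideal U ^ p ^ N := Ideal.pow_right_mono h2 _
    _ ≤ (J.comap W.ι).ideal U ^ (d + 1) := Ideal.pow_le_pow_right hn

end

end Groth.Agent.FrobCorrLib
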